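import Groth.Agent.H64.Aff.SchemeLemmas
import Groth.Agent.H53.QAffMor
import Mathlib.AlgebraicGeometry.QuasiAffine
import Mathlib.AlgebraicGeometry.Morphisms.Immersion

set_option autoImplicit false
set_option backward.isDefEq.respectTransparency false
universe u
open CategoryTheory CategoryTheory.Limits MonoidalCategory CartesianMonoidalCategory MonObj GrpObj
  AlgebraicGeometry

/-! A morphism `f : A ⟶ B` over `S` with `f ≫ q` affine for a quasi-separated `q : B ⟶ X` is
quasi-affine; the morphism `(act, pr₂) : G × X ⟶ X × X`. -/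

namespace Groth.Agent.H64.QAff

open AlgSp Groth.Agent.H64.PTh Groth.Agent.H64.Aff

variable {S : Scheme.{u}}

theorem stableBC_isQuasiAffineMor : StableBC (IsQuasiAffineMor (S := S)) :=
  fun _ _ _ _ _ _ _ _ _ _ _ _ sq h => Groth.Agent.H53.isQuasiAffineMor_of_isPullback sq h

theorem isQuasiAffineMor_yon_map_of_comp {A B X : Over S} (f : A ⟶ B) (q : B ⟶ X)
    (hfq : IsAffineHom (f ≫ q).left) (hq : QuasiSeparated q.left) :
    IsQuasiAffineMor ((yon S).map f) := by
  intro Z hZ g
  obtain ⟨ga, rfl⟩ := (yon S).map_surjective g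
  -- the graph factorization `f = j ≫ s`
  let C : Over S := pullback (f ≫ q) q
  let j : A ⟶ C := pullback.lift (𝟙 A) f (by rw [Category.id_comp])
  let s : C ⟶ B := pullback.snd (f ≫ q) q
  let p₁ : C ⟶ A := pullback.fst (f ≫ q) q
  have hjs : j ≫ s = f := pullback.lift_snd _ _ _
  have hjp : j ≫ p₁ = 𝟙 A := pullback.lift_fst _ _ _
  have sqC : IsPullback p₁.left s.left (f ≫ q).left q.left :=
    (IsPullback.of_hasPullback (f ≫ q) q).map (Over.forget S)
  have hs : IsAffineHom s.left := MorphismProperty.of_isPullback (P := @IsAffineHom.{u}) sqC hfq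
  have hp₁ : QuasiSeparated p₁.left :=
    MorphismProperty.of_isPullback (P := @QuasiSeparated.{u}) sqC.flip hq
  have hjp' : j.left ≫ p₁.left = 𝟙 A.left := by
    rw [← Over.comp_left, hjp]
    rfl
  have hj1 : IsImmersion j.left := by
    have : IsImmersion (j.left ≫ p₁.left) := by
      rw [hjp']
      infer_instance
    exact IsImmersion.of_comp j.left p₁.left
  have hj2 : QuasiCompact j.left := by
    have : QuasiCompact (j.left ≫ p₁.left) := by
      rw [hjp']
      infer_instance
    exact MorphismProperty.of_postcomp (W := @QuasiCompact.{u}) (W' := @QuasiSeparated.{u})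
      j.left p₁.left hp₁ this
  -- base change to `Z`
  let Y : Over S := pullback s ga
  let y₁ : Y ⟶ C := pullback.fst s ga
  let y₂ : Y ⟶ Z := pullback.snd s ga
  let W : Over S := pullback j y₁
  let w₁ : W ⟶ A := pullback.fst j y₁
  let w₂ : W ⟶ Y := pullback.snd j y₁
  have sq1 : IsPullback w₁ w₂ j y₁ := IsPullback.of_hasPullback j y₁
  have sq2 : IsPullback y₁ y₂ s ga := IsPullback.of_hasPullback s ga
  have sq : IsPullback w₁ (w₂ ≫ y₂) f ga := by
    have := (sq1.flip.paste_horiz sq2.flip).flip
    rwa [hjs] at this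
  have sq1' : IsPullback w₁.left w₂.left j.left y₁.left := sq1.map (Over.forget S)
  have sq2' : IsPullback y₁.left y₂.left s.left ga.left := sq2.map (Over.forget S)
  have hy₂ : IsAffineHom y₂.left := MorphismProperty.of_isPullback (P := @IsAffineHom.{u}) sq2' hs
  have : IsAffine Z.left := hZ
  have hY : IsAffine Y.left := isAffine_of_isAffineHom y₂.left
  have hw1 : IsImmersion w₂.left := MorphismProperty.of_isPullback (P := @IsImmersion.{u}) sq1' hj1
  have hw2 : QuasiCompact w₂.left :=
    MorphismProperty.of_isPullback (P := @QuasiCompact.{u}) sq1' hj2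
  have hcpt : CompactSpace W.left := (quasiCompact_iff_compactSpace w₂.left).mp hw2
  have hW : W.left.IsQuasiAffine := Scheme.IsQuasiAffine.of_isImmersion w₂.left
  exact ⟨W, w₂ ≫ y₂, (yon S).map w₁, sq.map (yon S), hW⟩

variable {G : Over S} [GrpObj G] {X : Over S} (aX : AlgGrp.Action G X)

theorem isQuasiAffineMor_actSnd [IsAffineHom G.hom] [QuasiSeparated X.hom] :
    IsQuasiAffineMor ((yon S).map (actSnd aX)) := by
  apply isQuasiAffineMor_yon_map_of_comp (actSnd aX) (snd X X)
  · have h1 : actSnd aX ≫ snd X X = snd G X := lift_snd _ _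
    rw [h1]
    exact MorphismProperty.pullback_snd (P := @IsAffineHom.{u}) G.hom X.hom inferInstance
  · exact MorphismProperty.pullback_snd (P := @QuasiSeparated.{u}) X.hom X.hom inferInstance

end Groth.Agent.H64.QAff
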