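import Groth.Agent.H53.Epi
import Groth.Agent.H53.Basic

set_option autoImplicit false
set_option backward.isDefEq.respectTransparency false
universe u
open CategoryTheory CategoryTheory.Limits AlgebraicGeometry Opposite
open AlgSp

/-! A morphism of fppf sheaves to a representable sheaf which becomes an isomorphism after base
change along an fppf covering is an isomorphism. -/

namespace Groth.Agent.H64.QAff

variable {S : Scheme.{u}}

theorem isIso_of_isPullback_id {F : Sp S} {U V : Over S} (ε : V ⟶ U) (hfl : Flat ε.left)
    (hfp : LocallyOfFinitePresentation ε.left) (hs : Surjective ε.left)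
    (η : F ⟶ (yon S).obj U) (t : (yon S).obj V ⟶ F)
    (sq : IsPullback (𝟙 ((yon S).obj V)) t ((yon S).map ε) η) : IsIso η := by
  have hw : t ≫ η = (yon S).map ε := by
    have := sq.w
    rw [Category.id_comp] at this
    exact this.symm
  have hls : Sheaf.IsLocallySurjective ((yon S).map ε) :=
    Groth.Agent.H53.isLocallySurjective_of_repWith ((yon S).map ε)
      ((repWith_yon_map_iff @Flat ε).2 hfl)
      ((repWith_yon_map_iff @LocallyOfFinitePresentation ε).2 hfp)
      ((repWith_yon_map_iff @Surjective ε).2 hs)
  have hepi : Epi ((yon S).map ε) := (Sheaf.isLocallySurjective_iff_epi _).1 hls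
  have hmono : Mono η := Groth.Agent.H53.mono_of_forall_yon η (fun T a b hab => by
    obtain ⟨R, hR, hl⟩ := Groth.Agent.H53.exists_local_lift ((yon S).map ε) (a ≫ η)
    refine Groth.Agent.H53.yon_hom_ext_of_sieve a b R hR (fun W w hw' => ?_)
    obtain ⟨l, hl'⟩ := hl w hw'
    have h1 : l ≫ (yon S).map ε = ((yon S).map w ≫ a) ≫ η := by rw [hl', Category.assoc]
    have h2 : l ≫ (yon S).map ε = ((yon S).map w ≫ b) ≫ η := by
      rw [hl', Category.assoc, hab]
    have e1 : l ≫ t = (yon S).map w ≫ a := by
      have h0 := sq.lift_fst l ((yon S).map w ≫ a) h1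
      rw [Category.comp_id] at h0
      have := sq.lift_snd l ((yon S).map w ≫ a) h1
      rw [h0] at this
      exact this
    have e2 : l ≫ t = (yon S).map w ≫ b := by
      have h0 := sq.lift_fst l ((yon S).map w ≫ b) h2
      rw [Category.comp_id] at h0
      have := sq.lift_snd l ((yon S).map w ≫ b) h2
      rw [h0] at this
      exact this
    exact e1.symm.trans e2)
  have hepi' : Epi η := Groth.Agent.H53.epi_of_local_lift η (fun T g => by
    obtain ⟨R, hR, hl⟩ := Groth.Agent.H53.exists_local_lift ((yon S).map ε) g
    refine ⟨R, hR, fun W w hw' => ?_⟩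
    obtain ⟨l, hl'⟩ := hl w hw'
    exact ⟨l ≫ t, by rw [Category.assoc, hw, hl']⟩)
  exact Groth.Agent.H53.sp_isIso_of_mono_of_epi η

end Groth.Agent.H64.QAff
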