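import Groth.Agent.H64.QAff.QAffSheaf
import Groth.Agent.H53.QAffMor

set_option autoImplicit false
set_option backward.isDefEq.respectTransparency false
universe u
open CategoryTheory CategoryTheory.Limits AlgebraicGeometry Opposite

namespace Groth.Agent.H64.QAff

open AlgSp

variable {S : Scheme.{u}}

/-- The fibre of `f` over an affine scheme `Z` is a quasi-affine scheme as soon as this holds after
an fppf base change `Z' ⟶ Z` of affine schemes factoring through a chart `V` over which `f` is
quasi-affine. -/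
theorem exists_quasiAffine_pullback_of_fppf_local {X Y : Sp S} (f : X ⟶ Y) {Z Z' V : Over S}
    (hZ : IsAffine Z.left) (hZ' : IsAffine Z'.left) (g : (yon S).obj Z ⟶ Y)
    (c : Z' ⟶ Z) (hfl : Flat c.left) (hfp : LocallyOfFinitePresentation c.left)
    (hsurj : Surjective c.left) (p : (yon S).obj V ⟶ Y) (b : Z' ⟶ V)
    (hb : (yon S).map b ≫ p = (yon S).map c ≫ g)
    {P : Sp S} (fst : P ⟶ X) (snd : P ⟶ (yon S).obj V) (sqP : IsPullback fst snd f p)
    (h : IsQuasiAffineMor snd) :
    ∃ (W : Over S) (i : W ⟶ Z) (fst' : (yon S).obj W ⟶ X),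
      IsPullback fst' ((yon S).map i) f g ∧ W.left.IsQuasiAffine := by
  obtain ⟨W', i', fst', sq', hW'⟩ := h hZ' ((yon S).map b)
  have sqbig : IsPullback (fst' ≫ fst) ((yon S).map i') f ((yon S).map c ≫ g) := by
    rw [← hb]
    exact sq'.paste_horiz sqP
  let F : Sp S := pullback f g
  let π : F ⟶ (yon S).obj Z := pullback.snd f g
  have sqF : IsPullback (pullback.fst f g) π f g := IsPullback.of_hasPullback f g
  let q : (yon S).obj W' ⟶ F := sqF.lift (fst' ≫ fst) ((yon S).map i' ≫ (yon S).map c)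
    (by rw [sqbig.w, Category.assoc])
  have hq1 : q ≫ pullback.fst f g = fst' ≫ fst := sqF.lift_fst _ _ _
  have hq2 : q ≫ π = (yon S).map i' ≫ (yon S).map c := sqF.lift_snd _ _ _
  have sq : IsPullback q ((yon S).map i') π ((yon S).map c) := by
    refine IsPullback.of_right ?_ hq2 sqF
    rw [hq1]
    exact sqbig
  obtain ⟨W, i, e, hW, he⟩ :=
    exists_quasiAffine_of_fppf_descent hZ hZ' hW' c i' π q sq hfl hfp hsurj
  refine ⟨W, i, e.hom ≫ pullback.fst f g, ?_, hW⟩
  refine IsPullback.of_iso sqF e.symm (Iso.refl _) (Iso.refl _) (Iso.refl _) ?_ ?_ (by simp)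
    (by simp)
  · simp
  · simp [← he]

end Groth.Agent.H64.QAff
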