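import Groth.Agent.H64.Aff.SheafPres
import Groth.Agent.H64.Psh.LocalLift
import Groth.Agent.H53.QAffMor

set_option autoImplicit false
open CategoryTheory CategoryTheory.Limits Opposite AlgebraicGeometry
universe u

/-! The sheaf presenting the base change of `f` is quasi-affine over every chart through which the base
lifts to a cover over which `f` is quasi-affine. -/

namespace Groth.Agent.H64.QAff

open Groth.Agent.H32 Groth.Agent.H64 Groth.Agent.H64.Recog Groth.Agent.H64.FpRep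
  Groth.Agent.H64.PTh Groth.Agent.H64.Aff AlgSt

variable {S : Scheme.{u}}

theorem isQuasiAffineMor_pullback_snd_of_lift {𝒳 𝒴 𝒲 : AlgSt.Cat S} (f : 𝒳 ⥤ᵇ 𝒴) (w : 𝒲 ⥤ᵇ 𝒴)
    (h' : RepByAlgSpWith AlgSp.IsQuasiAffineMor (FibCat.fpFst w f))
    {Z V₀ : AlgSp.Sp S} (z : ofSp Z ⥤ᵇ 𝒴) (a₀ : V₀ ⟶ Z) (eV : ofSp V₀ ⥤ᵇ FibCat.fp z f)
    (heV : FibCat.IsEquivOver eV) (αV : BasedFunctor.comp eV (FibCat.fpFst z f) ≅ ofSpMap a₀)
    {T' : Over S} (p : (AlgSp.yon S).obj T' ⟶ Z) (y' : FibCat.overCat T' ⥤ᵇ 𝒲)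
    (ν : BasedFunctor.comp y' w ≅
      BasedFunctor.comp (ofSection (uliftYonedaEquiv.{u+1} p.hom)) z) :
    AlgSp.IsQuasiAffineMor (pullback.snd a₀ p) := by
  let x : Z.obj.obj (op T') := uliftYonedaEquiv.{u+1} p.hom
  let s : FibCat.overCat T' ⥤ᵇ ofSp Z := ofSection x
  have hs : elOf s = uliftYonedaEquiv.{u+1} p.hom := elOf_ofSection x
  obtain ⟨F₁, e₁, he₁, hP₁⟩ := exists_presentation_of_lift AlgSp.IsQuasiAffineMor f w h'
    (BasedFunctor.comp s z) y' ν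
  have sq := IsPullback.of_hasPullback a₀ p
  have sq' : IsPullback (pullback.fst a₀ p).hom (pullback.snd a₀ p).hom a₀.hom p.hom :=
    sq.map (sheafToPresheaf _ _)
  let L : Stk.ofPsh (pullback a₀ p).obj ⥤ᵇ FibCat.fp s (Stk.ofPshMap a₀.hom) := pbLiftSq s sq' hs
  have hL : FibCat.IsEquivOver L := isEquivOver_pbLiftSq s sq' hs
  obtain ⟨Ψ, hΨ, hΨ1⟩ := exists_equiv_fp_of_square (FibCat.fpFst z f) (Stk.ofPshMap a₀.hom) eV
    (BasedFunctor.id _) heV (isEquivOver_id _) αV.symm s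
  let M : ofSp (pullback a₀ p) ⥤ᵇ FibCat.fp s (FibCat.fpFst z f) := BasedFunctor.comp L Ψ
  have hM : FibCat.IsEquivOver M := isEquivOver_comp hL hΨ
  let N : ofSp F₁.obj ⥤ᵇ FibCat.fp s (FibCat.fpFst z f) := BasedFunctor.comp e₁ (fpPaste f z s)
  have hN : FibCat.IsEquivOver N := isEquivOver_comp he₁ (isEquivOver_fpPaste f z s)
  have hMΦ : BasedFunctor.comp M (FibCat.fpFst s (FibCat.fpFst z f)) =
      BasedFunctor.comp (Stk.ofPshMap (pullback.snd a₀ p).hom) (toOv.{u+1} T') := by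
    have hΨ1' : BasedFunctor.comp Ψ (FibCat.fpFst s (FibCat.fpFst z f)) =
        FibCat.fpFst s (Stk.ofPshMap a₀.hom) := hΨ1
    show BasedFunctor.comp L (BasedFunctor.comp Ψ (FibCat.fpFst s (FibCat.fpFst z f))) = _
    rw [hΨ1']
    rfl
  obtain ⟨ψ, hψ, hψ2⟩ := spMapOfOver_eq_of_equiv (FibCat.fpFst s (FibCat.fpFst z f)) N M hM
    (pullback.snd a₀ p).hom (eqToHom hMΦ)
  have := hψ hN
  have hP₂ : AlgSp.IsQuasiAffineMor (ψ ≫ pullback.snd a₀ p) := by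
    have h3 : spMapOfOver (BasedFunctor.comp e₁ (FibCat.fpFst (BasedFunctor.comp s z) f)) =
        ψ ≫ pullback.snd a₀ p := hψ2
    rw [← h3]
    exact hP₁
  have h4 := Groth.Agent.H53.isQuasiAffineMor_of_iso_comp (asIso ψ).symm hP₂
  simpa using h4

end Groth.Agent.H64.QAff
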