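import Groth.Agent.H64.Aff.QuotDiag
import Groth.Agent.H64.QAff.QMain
import Groth.Agent.H64.QAff.ActSndQAff

set_option autoImplicit false
universe v₃ u₃ v₂ u₂ v u
open CategoryTheory CategoryTheory.Limits MonoidalCategory CartesianMonoidalCategory
  AlgebraicGeometry Opposite

/-! The diagonal of the quotient stack `[X/G]` is quasi-affine when `G` is affine flat lfp and `X` is
quasi-separated over `S`. -/

namespace Groth.Agent.H64.QAff

open AlgSt Groth.Agent.H32 Groth.Agent.H64 Groth.Agent.H64.Recog Groth.Agent.H64.Quot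
  Groth.Agent.H64.PTh Groth.Agent.H64.FpRep Groth.Agent.H65.AlgStCmp
  Groth.Agent.H65.AlgStChartCalc Groth.Agent.H64.Aff

variable {S : Scheme.{u}} (G : Over S) [GrpObj G] (X : Over S) (aX : AlgGrp.Action G X)

theorem repByAlgSpWith_cmp_isQuasiAffineMor {K : Precoverage Scheme.{u}} [K.HasIsos]
    [IsAffineHom G.hom] [QuasiSeparated X.hom] :
    RepByAlgSpWith AlgSp.IsQuasiAffineMor
        (cmp (quotMap K G aX) (quotMap K G aX) (FibCat.toSelf (QuotSt K G aX))) := by
  obtain ⟨e⟩ := nonempty_actSnd_square (K := K) aX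
  have hE := isEquivOver_prodLift X X
    (BasedFunctor.comp (quotMap K G aX) (FibCat.toSelf (QuotSt K G aX)))
    (BasedFunctor.comp (quotMap K G aX) (FibCat.toSelf (QuotSt K G aX)))
  have hA : FibCat.IsEquivOver (actLift K aX) := isTwoCartOver_act_snd aX
  let δ : yonSpace (G ⊗ X) ⟶ yonSpace (X ⊗ X) :=
    ObjectProperty.homMk ((AlgSp.yon S).map (actSnd aX))
  have h2 : AlgSp.IsQuasiAffineMor δ.hom := isQuasiAffineMor_actSnd aX
  have h1 : RepByAlgSpWith AlgSp.IsQuasiAffineMor (ofSpMap δ.hom) :=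
    repByAlgSpWith_ofSpMap stableBC_isQuasiAffineMor δ h2
  exact repByAlgSpWith_of_square' AlgSp.IsQuasiAffineMor _ _ (actLift K aX) _ hA hE e h1

/-- the diagonal of `[X/G]` is quasi-affine for `G` affine flat lfp, `X` quasi-separated -/
theorem repByAlgSpWith_diag_quotSt_isQuasiAffineMor [IsAffineHom G.hom] [Flat G.hom]
    [LocallyOfFinitePresentation G.hom] [QuasiSeparated X.hom] :
    RepByAlgSpWith AlgSp.IsQuasiAffineMor
        (FibCat.diag (FibCat.toSelf (QuotSt Scheme.fppfPrecoverage G aX))) := by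
  have hc := repByAlgSpWith_cmp_isQuasiAffineMor G X aX (K := Scheme.fppfPrecoverage)
  have hst : Stk.IsStack (AlgSp.J S) (QuotSt Scheme.fppfPrecoverage G aX) :=
    Groth.Agent.S12836.result S G X aX
  have h𝒰 : FibCat.IsFibGrpd (ofSch X).p := (isFibSetoid_ofPsh _).1
  have h𝒯 : FibCat.IsFibGrpd (FibCat.selfOver (Over S)).p := isFibGrpd_selfOver _
  have hΛ := isEquivOver_cmpΛ (quotMap Scheme.fppfPrecoverage G aX)
    (quotMap Scheme.fppfPrecoverage G aX)
    (FibCat.toSelf (QuotSt Scheme.fppfPrecoverage G aX)) h𝒰 h𝒰 hst.1 h𝒯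
  have h' : RepByAlgSpWith AlgSp.IsQuasiAffineMor
      (FibCat.fpFst (cmpM (quotMap Scheme.fppfPrecoverage G aX)
        (quotMap Scheme.fppfPrecoverage G aX)
        (FibCat.toSelf (QuotSt Scheme.fppfPrecoverage G aX)))
        (FibCat.diag (FibCat.toSelf (QuotSt Scheme.fppfPrecoverage G aX)))) :=
    repByAlgSpWith_of_square' AlgSp.IsQuasiAffineMor _
      (cmp (quotMap Scheme.fppfPrecoverage G aX) (quotMap Scheme.fppfPrecoverage G aX)
        (FibCat.toSelf (QuotSt Scheme.fppfPrecoverage G aX)))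
      (cmpΛ (quotMap Scheme.fppfPrecoverage G aX) (quotMap Scheme.fppfPrecoverage G aX)
        (FibCat.toSelf (QuotSt Scheme.fppfPrecoverage G aX)))
      (BasedFunctor.id _) hΛ (isEquivOver_id _) (Iso.refl _) hc
  have hfp : Stk.IsStack (AlgSp.J S)
      (FibCat.fp (FibCat.toSelf (QuotSt Scheme.fppfPrecoverage G aX))
        (FibCat.toSelf (QuotSt Scheme.fppfPrecoverage G aX))) :=
    isStack_fp _ _ (AlgSp.J S) hst hst (isPrestack_selfOver _)
  have := diag_faithful (FibCat.toSelf (QuotSt Scheme.fppfPrecoverage G aX))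
  exact repByAlgSpWith_isQuasiAffineMor_of_fppf_cover hst (isPrestack_of_isStack hfp)
    (isFibGrpd_fp _ _ h𝒰 h𝒰 h𝒯) _ _
    (repByAlgSpWith_cmpM calc_flat h𝒰 h𝒰 hst.1 h𝒯 _ _ _ (quotMap_flat' G X aX)
      (quotMap_flat' G X aX))
    (repByAlgSpWith_cmpM calc_lfp h𝒰 h𝒰 hst.1 h𝒯 _ _ _ (quotMap_lfp' G X aX)
      (quotMap_lfp' G X aX))
    (repByAlgSpWith_cmpM calc_surj h𝒰 h𝒰 hst.1 h𝒯 _ _ _ (quotMap_surjective' G X aX)
      (quotMap_surjective' G X aX)) h'

end Groth.Agent.H64.QAff
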